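import Groth.Agent.H9Misc.PerfSchAffine

/-!
# Perfections: maps from arbitrary schemes, maps to the prime field, reducedness
-/

universe u

open CategoryTheory CategoryTheory.Limits AlgebraicGeometry Opposite

set_option backward.isDefEq.respectTransparency false
set_option backward.isDefEq.respectTransparency.types false

namespace Groth.Agent.H84PerfApprox

variable (p : ℕ) [Fact p.Prime]

/-- The prime field. -/
noncomputable abbrev base : Scheme.{u} := Spec (CommRingCat.of (ULift.{u} (ZMod p)))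

/-- A scheme of characteristic `p` lives over the prime field. -/
theorem exists_toBase (X : Scheme.{u}) [FrobSch.IsCharP X p] : Nonempty (X ⟶ base.{u} p) := by
  have hd : ringChar Γ(X, ⊤) ∣ p := ringChar.dvd (FrobSch.IsCharP.natCast_eq_zero (X := X) (p := p))
  exact ⟨X.toSpecΓ ≫ Spec.map (CommRingCat.ofHom
    (((ZMod.castHom hd Γ(X, ⊤)).comp (ULift.ringEquiv : ULift.{u} (ZMod p) ≃+* ZMod p).toRingHom)))⟩

/-- A perfect scheme is reduced. -/
theorem isReduced_of_isPerfect {X : Scheme.{u}} [FrobSch.IsCharP X p] (h : FrobSch.IsPerfect X p) :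
    IsReduced X := by
  have hU : ∀ U : X.Opens, _root_.IsReduced Γ(X, U) := fun U => by
    refine (isReduced_iff_pow_one_lt p (Fact.out : p.Prime).one_lt).2 fun x hx => ?_
    refine (H9Misc.PerfSchLib.bijective_pow_of_isPerfect p h U).1 ?_
    show x ^ p = 0 ^ p
    rw [hx, zero_pow (Fact.out : p.Prime).ne_zero]
  exact ⟨hU⟩

/-- The limit of the Frobenius tower is a perfection. -/
theorem exists_tower_perfection (X : Scheme.{u}) [FrobSch.IsCharP X p] :
    ∃ (c : Cone (H9Misc.PerfSchLib.tower p X)) (_ : IsLimit c) (_ : FrobSch.IsCharP c.pt p),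
      FrobSch.IsPerfection (XP := c.pt) (X := X) (c.π.app (op (ULift.up 0))) p ∧
      (∀ n, c.π.app (op (ULift.up (n + 1))) ≫ FrobSch.frob X p = c.π.app (op (ULift.up n))) ∧
      ∃ s : c.pt ⟶ c.pt, s ≫ FrobSch.frob c.pt p = 𝟙 _ ∧
        ∀ n m, (fun g : c.pt ⟶ c.pt => g ≫ s)^[n] (𝟙 _) ≫ c.π.app (op (ULift.up m)) = c.π.app (op (ULift.up (n + m))) := by
  obtain ⟨c, hc, -⟩ := Groth.Agent.S2151.result (H9Misc.PerfSchLib.tower p X)
  let π : ∀ n : ℕ, c.pt ⟶ X := fun n => c.π.app (op (ULift.up n))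
  have hπ : ∀ n, π (n + 1) ≫ FrobSch.frob X p = π n := fun n => by
    have := c.w (homOfLE (show (ULift.up n : ULift.{u} ℕ) ≤ ULift.up (n + 1) from Nat.le_succ n)).op
    rwa [H9Misc.PerfSchLib.tower_succ] at this
  haveI : FrobSch.IsCharP c.pt p := FrobSch.IsCharP.of_hom (π 0) p
  have hext : ∀ {T : Scheme.{u}} {a b : T ⟶ c.pt}, (∀ n, a ≫ π n = b ≫ π n) → a = b :=
    fun h => hc.hom_ext fun i => h i.unop.down
  let s : c.pt ⟶ c.pt := hc.lift (H9Misc.PerfSchLib.mkCone p X (fun n => π (n + 1)) fun n => hπ (n + 1))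
  have hs : ∀ n, s ≫ π n = π (n + 1) := fun n => hc.fac _ (op (ULift.up n))
  have hsF : s ≫ FrobSch.frob c.pt p = 𝟙 c.pt := hext fun n => by
    rw [Category.assoc, FrobSch.frob_comp, ← Category.assoc, hs, hπ, Category.id_comp]
  have hFs : FrobSch.frob c.pt p ≫ s = 𝟙 c.pt := hext fun n => by
    rw [Category.assoc, hs, FrobSch.frob_comp, hπ, Category.id_comp]
  have hsn : ∀ n m, (fun g : c.pt ⟶ c.pt => g ≫ s)^[n] (𝟙 _) ≫ π m = π (n + m) := fun n => by
    induction n with
    | zero => intro m; rw [Function.iterate_zero_apply, Category.id_comp, Nat.zero_add]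
    | succ n ih =>
      intro m
      rw [Function.iterate_succ_apply', Category.assoc, hs, ih]
      congr 1; omega
  refine ⟨c, hc, inferInstance, ⟨⟨s, hFs, hsF⟩, fun Y _ hY => ⟨fun a b e => hext fun n => ?_, fun g => ?_⟩⟩,
    hπ, s, hsF, hsn⟩
  · induction n with
    | zero => exact e
    | succ n ih =>
      haveI : IsIso (FrobSch.frob Y p) := hY
      rw [← cancel_epi (FrobSch.frob Y p), FrobSch.frob_comp, FrobSch.frob_comp, Category.assoc, Category.assoc,
        hπ, ih]
  · haveI : IsIso (FrobSch.frob Y p) := hY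
    let gn : ℕ → (Y ⟶ X) := fun n => Nat.rec g (fun _ h => inv (FrobSch.frob Y p) ≫ h) n
    have hg : ∀ n, gn (n + 1) ≫ FrobSch.frob X p = gn n := fun n => by
      show (inv (FrobSch.frob Y p) ≫ gn n) ≫ _ = _
      rw [Category.assoc, ← FrobSch.frob_comp, IsIso.inv_hom_id_assoc]
    exact ⟨hc.lift (H9Misc.PerfSchLib.mkCone p X gn hg), hc.fac _ (op (ULift.up 0))⟩

/-- A perfection together with the inverse of its Frobenius; it detects morphisms from any scheme. -/
theorem exists_perfection' (X : Scheme.{u}) [FrobSch.IsCharP X p] :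
    ∃ (XP : Scheme.{u}) (_ : FrobSch.IsCharP XP p) (π : XP ⟶ X) (s : XP ⟶ XP),
      FrobSch.IsPerfection π p ∧ s ≫ FrobSch.frob XP p = 𝟙 XP ∧
      ∀ {W : Scheme.{u}} {a b : W ⟶ XP},
        (∀ n : ℕ, a ≫ (fun g : XP ⟶ XP => g ≫ s)^[n] (𝟙 XP) ≫ π = b ≫ (fun g : XP ⟶ XP => g ≫ s)^[n] (𝟙 XP) ≫ π) →
          a = b := by
  obtain ⟨c, hc, hp, hP, -, s, hs, hsn⟩ := exists_tower_perfection p X
  refine ⟨c.pt, hp, c.π.app (op (ULift.up 0)), s, hP, hs, fun {W a b} h => hc.hom_ext fun i => ?_⟩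
  have := h i.unop.down
  rw [hsn, Nat.add_zero] at this
  exact this

end Groth.Agent.H84PerfApprox
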